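import Mathlib.Algebra.Homology.DerivedCategory.HomologySequence
import Mathlib.Algebra.Homology.DerivedCategory.Fractions

/-! Homology of the mapping cone in the range where a map is an isomorphism on homology. -/

universe v u

open CategoryTheory CategoryTheory.Limits CochainComplex

attribute [local instance] HasDerivedCategory.standard

set_option backward.isDefEq.respectTransparency false

namespace Groth.L10.ModLocalLift

variable {A : Type u} [Category.{v} A] [Abelian A]

theorem isZero_homology_mappingCone {P G : CochainComplex A ℤ} (f : P ⟶ G) (a : ℤ)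
    (hiso : ∀ j : ℤ, a < j → IsIso (HomologicalComplex.homologyMap f j))
    (hepi : Epi (HomologicalComplex.homologyMap f a)) (i : ℤ) (hi : a ≤ i) :
    IsZero ((mappingCone f).homology i) := by
  let T := DerivedCategory.Q.mapTriangle.obj (mappingCone.triangle f)
  have hT : T ∈ Pretriangulated.distinguishedTriangles :=
    (DerivedCategory.mem_distTriang_iff _).mpr ⟨_, _, f, ⟨Iso.refl _⟩⟩
  have hiso' : ∀ j : ℤ, a < j → IsIso ((DerivedCategory.homologyFunctor A j).map T.mor₁) := fun j hj =>
    (NatIso.isIso_map_iff (DerivedCategory.homologyFunctorFactors A j) f).2 (hiso j hj)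
  have he : Epi ((DerivedCategory.homologyFunctor A i).map T.mor₁) := by
    rcases eq_or_lt_of_le hi with rfl | h
    · exact ((MorphismProperty.epimorphisms A).arrow_iso_iff
        (((Functor.mapArrowFunctor _ _).mapIso
          (DerivedCategory.homologyFunctorFactors A a)).app (Arrow.mk f))).2 hepi
    · have := hiso' i h; infer_instance
  have := hiso' (i + 1) (by omega)
  have h2 : Epi ((DerivedCategory.homologyFunctor A i).map T.mor₂) :=
    (DerivedCategory.HomologySequence.epi_homologyMap_mor₂_iff T hT i (i + 1) rfl).2
      ((DerivedCategory.HomologySequence.mono_homologyMap_mor₁_iff T hT i (i + 1) rfl).1 inferInstance)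
  exact (IsZero.of_epi_eq_zero _
      ((DerivedCategory.HomologySequence.epi_homologyMap_mor₁_iff T hT i).1 he)).of_iso
    ((DerivedCategory.homologyFunctorFactors A i).symm.app (mappingCone f))

end Groth.L10.ModLocalLift
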