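import Groth.Prelude.Def_ModSite
import Groth.Prelude.Def_AlgSpPerf
import Groth.Agent.L10.ModAcyc
import Groth.Agent.L10.ModLocalLift.Cone
import Mathlib.CategoryTheory.Sites.EpiMono
import Mathlib.Algebra.Category.ModuleCat.Sheaf.Free
import Mathlib.Algebra.Category.ModuleCat.Sheaf.PushforwardContinuous
import Mathlib.CategoryTheory.Limits.Preserves.Shapes.Biproducts

/-! Maps out of strictly perfect complexes on a ringed site are locally null homotopic. -/

set_option autoImplicit false
set_option backward.defeqAttrib.useBackward true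
set_option backward.isDefEq.respectTransparency false
set_option backward.isDefEq.respectTransparency.types false
set_option synthInstance.maxHeartbeats 200000

universe u

open CategoryTheory CategoryTheory.Limits Opposite ModSite

namespace Groth.L10.ModLocalLift

variable {C : Type u} [SmallCategory C] {J : GrothendieckTopology C} (O : Sheaf J CommRingCat.{u})

instance additive_restr (W : C) : (restr O W).Additive :=
  haveI := preservesBinaryBiproducts_of_preservesBinaryProducts (restr O W)
  Functor.additive_of_preservesBinaryBiproducts _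

/-- restriction of a map of restricted modules -/
noncomputable def tr {W W' : C} (f : W' ⟶ W) {A B : Mod O} (φ : (restr O W).obj A ⟶ (restr O W).obj B) :
    (restr O W').obj A ⟶ (restr O W').obj B :=
  (SheafOfModules.overFunctorMap (ringSh O) f).inv.app A ≫ (SheafOfModules.overMap (ringSh O) f).map φ ≫
    (SheafOfModules.overFunctorMap (ringSh O) f).hom.app B

variable {O}

theorem tr_app {W W' : C} (f : W' ⟶ W) {A B : Mod O} (φ : (restr O W).obj A ⟶ (restr O W).obj B) (U : Over W') :
    (tr O f φ).val.app (op U) = φ.val.app (op ((Over.map f).obj U)) := rfl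

theorem tr_restr {W W' : C} (f : W' ⟶ W) {A B : Mod O} (φ : A ⟶ B) :
    tr O f ((restr O W).map φ) = (restr O W').map φ := rfl

theorem tr_comp {W W' : C} (f : W' ⟶ W) {A B D : Mod O} (φ : (restr O W).obj A ⟶ (restr O W).obj B)
    (ψ : (restr O W).obj B ⟶ (restr O W).obj D) : tr O f (φ ≫ ψ) = tr O f φ ≫ tr O f ψ := rfl

theorem tr_add {W W' : C} (f : W' ⟶ W) {A B : Mod O} (φ ψ : (restr O W).obj A ⟶ (restr O W).obj B) :
    tr O f (φ + ψ) = tr O f φ + tr O f ψ := rfl

theorem tr_sub {W W' : C} (f : W' ⟶ W) {A B : Mod O} (φ ψ : (restr O W).obj A ⟶ (restr O W).obj B) :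
    tr O f (φ - ψ) = tr O f φ - tr O f ψ := rfl

theorem tr_zero {W W' : C} (f : W' ⟶ W) {A B : Mod O} :
    tr O f (0 : (restr O W).obj A ⟶ (restr O W).obj B) = 0 := rfl

theorem tr_trans {W W' W'' : C} (f : W' ⟶ W) (f' : W'' ⟶ W') {A B : Mod O}
    (φ : (restr O W).obj A ⟶ (restr O W).obj B) : tr O f' (tr O f φ) = tr O (f' ≫ f) φ := by
  ext ⟨U⟩ m
  show φ.val.app (op (Over.mk ((U.hom ≫ f') ≫ f))) m = φ.val.app (op (Over.mk (U.hom ≫ f' ≫ f))) m
  have key : ∀ h h' : U.left ⟶ W, h = h' →
      (φ.val.app (op (Over.mk h)) m : B.val.obj (op U.left)) = φ.val.app (op (Over.mk h')) m := by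
    rintro h _ rfl; rfl
  exact key _ _ (Category.assoc _ _ _)

/-- restriction of a map of restricted complexes -/
noncomputable def trCx {W W' : C} (f : W' ⟶ W) {E F : CochainComplex (Mod O) ℤ}
    (α : ((restr O W).mapHomologicalComplex (ComplexShape.up ℤ)).obj E ⟶
      ((restr O W).mapHomologicalComplex (ComplexShape.up ℤ)).obj F) :
    ((restr O W').mapHomologicalComplex (ComplexShape.up ℤ)).obj E ⟶
      ((restr O W').mapHomologicalComplex (ComplexShape.up ℤ)).obj F where
  f i := tr O f (α.f i)
  comm' i j _ := congrArg (tr O f) (α.comm i j)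

theorem trCx_restr {W W' : C} (f : W' ⟶ W) {E F : CochainComplex (Mod O) ℤ} (α : E ⟶ F) :
    trCx f (((restr O W).mapHomologicalComplex (ComplexShape.up ℤ)).map α) =
      ((restr O W').mapHomologicalComplex (ComplexShape.up ℤ)).map α := rfl

theorem trCx_trans {W W' W'' : C} (f : W' ⟶ W) (f' : W'' ⟶ W') {E F : CochainComplex (Mod O) ℤ}
    (α : ((restr O W).mapHomologicalComplex (ComplexShape.up ℤ)).obj E ⟶
      ((restr O W).mapHomologicalComplex (ComplexShape.up ℤ)).obj F) :
    trCx f' (trCx f α) = trCx (f' ≫ f) α :=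
  HomologicalComplex.hom_ext _ _ fun i => tr_trans f f' (α.f i)

/-- maps out of summands of finite free modules lift locally -/
theorem exists_lift {E G H : Mod O} (hE : DCoh.IsFinFreeSummandMod (ringSh O) E) (p : G ⟶ H) [Epi p]
    (W : C) (φ : (restr O W).obj E ⟶ (restr O W).obj H) :
    ∃ S ∈ J W, ∀ ⦃W' : C⦄ (f : W' ⟶ W), S f →
      ∃ l : (restr O W').obj E ⟶ (restr O W').obj G, l ≫ (restr O W').map p = tr O f φ := by
  classical
  obtain ⟨n, i, pr, hip⟩ := hE
  let I := ULift.{u} (Fin n)
  let θ := (restr O W).map pr ≫ φ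
  let x : I → PresheafOfModules.sections ((restr O W).obj H).val := fun j =>
    ((restr O W).obj H).unitHomEquiv ((restr O W).map (SheafOfModules.ιFree j) ≫ θ)
  haveI := Groth.L10.ModAcyc.epi_toSheaf O p
  haveI : Sheaf.IsLocallySurjective ((SheafOfModules.toSheaf.{u} (ringSh O)).map p) :=
    (Sheaf.isLocallySurjective_iff_epi' (J := J) (A := AddCommGrpCat.{u}) _).2 inferInstance
  let R : I → Sieve W := fun j => Presheaf.imageSieve ((SheafOfModules.toSheaf.{u} (ringSh O)).map p).hom
    (U := W) ((x j).val (op (Over.mk (𝟙 W))))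
  have hR : ∀ j, R j ∈ J W := fun j => Presheaf.imageSieve_mem J ((SheafOfModules.toSheaf.{u} (ringSh O)).map p).hom
    (U := op W) ((x j).val (op (Over.mk (𝟙 W))))
  refine ⟨Finset.univ.inf R, Finset.inf_induction (J.top_mem W) (fun _ ha _ hb => J.intersection_covering ha hb)
    (fun j _ => hR j), fun W' g hg => ?_⟩
  have ht : ∀ j, ∃ t : G.val.obj (op W'), p.val.app (op W') t = (x j).val (op (Over.mk g)) := fun j => by
    obtain ⟨t, ht⟩ := (Finset.inf_le (Finset.mem_univ j) : Finset.univ.inf R ≤ R j) g hg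
    refine ⟨t, ht.trans ?_⟩
    exact PresheafOfModules.sections_property (x j) (Over.homMk g (Category.comp_id g) : Over.mk g ⟶ Over.mk (𝟙 W)).op
  choose t ht using ht
  let ψ : ∀ j, SheafOfModules.unit _ ⟶ (restr O W').obj G := fun j =>
    ((restr O W').obj G).unitHomEquiv.symm
      (PresheafOfModules.sectionsMk (fun X => G.val.presheaf.map X.unop.hom.op (t j)) (fun {X Y} a => by
        show G.val.presheaf.map a.unop.left.op (G.val.presheaf.map X.unop.hom.op (t j)) = _
        rw [← ConcreteCategory.comp_apply, ← Functor.map_comp, ← op_comp, Over.w]))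
  haveI := preservesBinaryBiproducts_of_preservesBinaryProducts (restr O W')
  haveI : PreservesBiproductsOfShape (Fin n) (restr O W') := PreservesFiniteBiproducts.preserves
  haveI : PreservesColimitsOfShape (Discrete (Fin n)) (restr O W') :=
    preservesCoproductsOfShape_of_preservesBiproductsOfShape _
  haveI : PreservesColimitsOfShape (Discrete I) (restr O W') :=
    preservesColimitsOfShape_of_equiv (Discrete.equivalence Equiv.ulift.symm) _
  let hc := isColimitCofanMkObjOfIsColimit (restr O W') _ _
    (coproductIsCoproduct fun _ : I => SheafOfModules.unit (ringSh O))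
  refine ⟨(restr O W').map i ≫ Cofan.IsColimit.desc hc ψ, ?_⟩
  have key : Cofan.IsColimit.desc hc ψ ≫ (restr O W').map p = tr O g θ := by
    refine Cofan.IsColimit.hom_ext hc _ _ fun j => ?_
    rw [Cofan.IsColimit.fac_assoc]
    refine Eq.trans ?_ (tr_comp g ((restr O W).map (SheafOfModules.ιFree j)) θ)
    apply ((restr O W').obj H).unitHomEquiv.injective
    rw [SheafOfModules.unitHomEquiv_comp_apply]
    erw [Equiv.apply_symm_apply]
    refine Subtype.ext (funext fun X => ?_)
    show p.val.app (op X.unop.left) (G.val.presheaf.map X.unop.hom.op (t j)) =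
      (x j).val (op (Over.mk (X.unop.hom ≫ g)))
    refine (NatTrans.naturality_apply ((PresheafOfModules.toPresheaf _).map p.val) X.unop.hom.op (t j)).trans ?_
    refine (congrArg (H.val.presheaf.map X.unop.hom.op) (ht j)).trans ?_
    exact PresheafOfModules.sections_property (x j) (Over.homMk X.unop.hom rfl : Over.mk (X.unop.hom ≫ g) ⟶ Over.mk g).op
  rw [Category.assoc, key]
  show (restr O W').map i ≫ tr O g ((restr O W).map pr ≫ φ) = tr O g φ
  rw [tr_comp, tr_restr, ← Category.assoc, ← Functor.map_comp, hip, CategoryTheory.Functor.map_id, Category.id_comp]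

theorem exists_nullHomotopy_aux (n : ℕ) {E F : CochainComplex (Mod O) ℤ} (a : ℤ)
    (hE : ∀ i, DCoh.IsFinFreeSummandMod (ringSh O) (E.X i)) (hEa : ∀ i, i < a → IsZero (E.X i))
    (hF : ∀ i, a ≤ i → IsZero (F.homology i)) :
    ∀ (W : C) (α : ((restr O W).mapHomologicalComplex (ComplexShape.up ℤ)).obj E ⟶
      ((restr O W).mapHomologicalComplex (ComplexShape.up ℤ)).obj F), (∀ i, a + n ≤ i → α.f i = 0) →
    ∃ S ∈ J W, ∀ ⦃W' : C⦄ (f : W' ⟶ W), S f → Nonempty (Homotopy (trCx f α) 0) := by
  induction n with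
  | zero =>
    intro W α hα
    refine ⟨⊤, J.top_mem W, fun W' f _ => ⟨Homotopy.ofEq ?_⟩⟩
    ext i : 1
    rcases lt_or_ge i a with h | h
    · exact ((restr O W').map_isZero (hEa i h)).eq_of_src _ _
    · exact (congrArg (tr O f) (hα i (by simpa using h))).trans (tr_zero f)
  | succ n ih =>
    intro W α hα
    let b : ℤ := a + n
    haveI hp : Epi (F.toCycles (b - 1) b) := Preadditive.epi_of_cancel_zero _ fun g hg => by
      obtain ⟨l, hl⟩ := CokernelCofork.IsColimit.desc' (F.homologyIsCokernel (b - 1) b (by simp)) g hg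
      rw [← hl, (hF b (by simp [b])).eq_of_src l 0, comp_zero]
    have hb : α.f b ≫ (restr O W).map (F.d b (b + 1)) = 0 := by
      refine (α.comm b (b + 1)).trans ?_
      rw [hα (b + 1) (by simp only [b]; push_cast; omega), comp_zero]
    obtain ⟨φ, hφ⟩ := KernelFork.IsLimit.lift'
      (KernelFork.mapIsLimit _ (F.cyclesIsKernel b (b + 1) (by simp)) (restr O W)) (α.f b) hb
    obtain ⟨S, hS, hl⟩ := exists_lift (hE b) (F.toCycles (b - 1) b) W φ
    have main : ∀ ⦃W₁ : C⦄ (f : W₁ ⟶ W), S f → ∃ T ∈ J W₁, ∀ ⦃W' : C⦄ (f' : W' ⟶ W₁), T f' →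
        Nonempty (Homotopy (trCx (f' ≫ f) α) 0) := by
      intro W₁ f hf
      obtain ⟨ψ, hψ⟩ := hl f hf
      have hψ' : ψ ≫ (restr O W₁).map (F.d (b - 1) b) = tr O f (α.f b) := by
        rw [← hφ, ← F.toCycles_i (b - 1) b, Functor.map_comp, ← Category.assoc, hψ]
        exact (tr_comp f φ ((restr O W).map (F.iCycles b))).symm
      let P := ((restr O W₁).mapHomologicalComplex (ComplexShape.up ℤ)).obj E
      let Q := ((restr O W₁).mapHomologicalComplex (ComplexShape.up ℤ)).obj F
      let h : ∀ i j, (ComplexShape.up ℤ).Rel j i → (P.X i ⟶ Q.X j) := fun i j hij =>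
        if hi : i = b then (P.XIsoOfEq hi).hom ≫ ψ ≫
          (Q.XIsoOfEq (show b - 1 = j by simp at hij; omega)).hom
        else 0
      have key : ∀ i, a + (n : ℤ) ≤ i → (trCx f α - Homotopy.nullHomotopicMap' h).f i = 0 := by
        intro i hi
        rw [HomologicalComplex.sub_f_apply,
          Homotopy.nullHomotopicMap'_f (show (ComplexShape.up ℤ).Rel (i - 1) i by simp)
            (show (ComplexShape.up ℤ).Rel i (i + 1) by simp),
          show h (i + 1) i (by simp) = 0 from dif_neg (by omega), comp_zero, zero_add]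
        by_cases hib : i = b
        · subst hib
          rw [show h b (b - 1) (by simp) = ψ by simp [h]; exact Category.comp_id _, sub_eq_zero]
          exact hψ'.symm
        · rw [show h i (i - 1) (by simp) = 0 from dif_neg hib, zero_comp, sub_zero]
          exact (congrArg (tr O f) (hα i (by simp only [b] at hib; push_cast; omega))).trans (tr_zero f)
      obtain ⟨T, hT, hH⟩ := ih W₁ (trCx f α - Homotopy.nullHomotopicMap' h) key
      refine ⟨T, hT, fun W' f' hf' => ?_⟩
      obtain ⟨H⟩ := hH f' hf'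
      let P' := ((restr O W').mapHomologicalComplex (ComplexShape.up ℤ)).obj E
      let Q' := ((restr O W').mapHomologicalComplex (ComplexShape.up ℤ)).obj F
      let h' : ∀ i j, (ComplexShape.up ℤ).Rel j i → (P'.X i ⟶ Q'.X j) := fun i j hij => tr O f' (h i j hij)
      have hn : trCx f' (Homotopy.nullHomotopicMap' h) = Homotopy.nullHomotopicMap' h' := by
        ext i : 1
        rw [Homotopy.nullHomotopicMap'_f (show (ComplexShape.up ℤ).Rel (i - 1) i by simp)
            (show (ComplexShape.up ℤ).Rel i (i + 1) by simp)]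
        show tr O f' ((Homotopy.nullHomotopicMap' h).f i) = _
        rw [Homotopy.nullHomotopicMap'_f (show (ComplexShape.up ℤ).Rel (i - 1) i by simp)
            (show (ComplexShape.up ℤ).Rel i (i + 1) by simp)]
        rfl
      refine ⟨(Homotopy.ofEq ?_).trans ((H.add (Homotopy.nullHomotopy' h')).trans (Homotopy.ofEq (add_zero 0)))⟩
      rw [← hn, ← trCx_trans]
      ext i : 1
      show tr O f' ((trCx f α).f i) =
        tr O f' ((trCx f α).f i - (Homotopy.nullHomotopicMap' h).f i) +
          tr O f' ((Homotopy.nullHomotopicMap' h).f i)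
      rw [← tr_add, sub_add_cancel]
    choose T hT hH using main
    refine ⟨Sieve.bind S.arrows T, J.bind_covering hS fun Y f hf => hT f hf, ?_⟩
    rintro W' _ ⟨Z, g, f, hf, hg, rfl⟩
    exact hH f hf g hg

/-- maps out of strictly perfect complexes into complexes acyclic in high degrees are locally null homotopic -/
theorem exists_nullHomotopy {E F : CochainComplex (Mod O) ℤ} (hE : DCoh.IsStrictlyPerfectMod (ringSh O) E)
    (a : ℤ) (hEa : ∀ i, i < a → IsZero (E.X i)) (hF : ∀ i, a ≤ i → IsZero (F.homology i)) (α : E ⟶ F) (V : C) :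
    ∃ S ∈ J V, ∀ ⦃W : C⦄ (g : W ⟶ V), S g →
      Nonempty (Homotopy (((restr O W).mapHomologicalComplex (ComplexShape.up ℤ)).map α) 0) := by
  obtain ⟨⟨a', b', hv⟩, hf⟩ := hE
  exact exists_nullHomotopy_aux (b' + 1 - a).toNat a hf hEa hF V
    (((restr O V).mapHomologicalComplex (ComplexShape.up ℤ)).map α)
    (fun i hi => ((restr O V).map_isZero (hv i (Or.inr (by omega)))).eq_of_src _ _)

/-- lifting up to homotopy -/
theorem exists_homotopy_lift {E F G : CochainComplex (Mod O) ℤ} (α : E ⟶ F) (f : G ⟶ F)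
    (hE : DCoh.IsStrictlyPerfectMod (ringSh O) E) (a : ℤ) (hEa : ∀ j : ℤ, j < a → IsZero (E.X j))
    (hiso : ∀ j : ℤ, a < j → IsIso (HomologicalComplex.homologyMap f j))
    (hepi : Epi (HomologicalComplex.homologyMap f a)) (V : C) :
    ∃ R ∈ J V, ∀ ⦃W : C⦄ (g : W ⟶ V), R g →
      ∃ β : ((restr O W).mapHomologicalComplex (ComplexShape.up ℤ)).obj E ⟶
          ((restr O W).mapHomologicalComplex (ComplexShape.up ℤ)).obj G,
        Nonempty (Homotopy (β ≫ ((restr O W).mapHomologicalComplex (ComplexShape.up ℤ)).map f)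
          (((restr O W).mapHomologicalComplex (ComplexShape.up ℤ)).map α)) := by
  obtain ⟨R, hR, h⟩ := exists_nullHomotopy hE a hEa (isZero_homology_mappingCone f a hiso hepi)
    (α ≫ CochainComplex.mappingCone.inr f) V
  refine ⟨R, hR, fun W g hg => ?_⟩
  obtain ⟨H⟩ := h g hg
  let M := (restr O W).mapHomologicalComplex (ComplexShape.up ℤ)
  let e := CochainComplex.mappingCone.mapHomologicalComplexIso f (restr O W)
  let q := HomotopyCategory.quotient (Mod (O.over W)) (ComplexShape.up ℤ)
  have h0 : q.map (M.map α) ≫ q.map (CochainComplex.mappingCone.inr (M.map f)) = 0 := by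
    have h1 := HomotopyCategory.eq_of_homotopy _ _ H
    rw [Functor.map_zero] at h1
    have h2 : M.map (CochainComplex.mappingCone.inr f) ≫ e.hom =
        CochainComplex.mappingCone.inr (M.map f) :=
      CochainComplex.mappingCone.map_inr _ _
    rw [← Functor.map_comp, ← h2, ← Category.assoc, ← Functor.map_comp, Functor.map_comp, h1, zero_comp]
  obtain ⟨β, hβ⟩ := Pretriangulated.Triangle.coyoneda_exact₂ _
    (HomotopyCategory.mappingCone_triangleh_distinguished (M.map f)) _ h0
  obtain ⟨β, rfl⟩ := q.map_surjective β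
  exact ⟨β, ⟨HomotopyCategory.homotopyOfEq _ _ ((q.map_comp _ _).trans hβ.symm)⟩⟩

end Groth.L10.ModLocalLift
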